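import Groth.Agent.L01.PowSerReg
import Mathlib.RingTheory.MvPowerSeries.Derivative
import Mathlib.LinearAlgebra.Basis.VectorSpace

/-! Coordinates adapted to an ideal of a power series ring over a field. -/

set_option autoImplicit false
set_option linter.style.haveILetI false
universe u

open IsLocalRing MvPowerSeries

noncomputable section

namespace Groth.L06.NodeMinors

variable {k : Type u} [Field k] {n : ℕ}

/-- The linear part of a power series. -/
def lp : MvPowerSeries (Fin n) k →ₗ[k] (Fin n → k) where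
  toFun w i := constantCoeff (pderiv k i w)
  map_add' v w := funext fun i => by simp
  map_smul' c w := funext fun i => by
    simp [Derivation.map_smul]

theorem mem_max {w : MvPowerSeries (Fin n) k} :
    w ∈ maximalIdeal (MvPowerSeries (Fin n) k) ↔ constantCoeff w = 0 := by
  rw [IsLocalRing.mem_maximalIdeal, mem_nonunits_iff, isUnit_iff_constantCoeff, isUnit_iff_ne_zero, not_not]

theorem sub_C_mem (w : MvPowerSeries (Fin n) k) : w - C (constantCoeff w) ∈ maximalIdeal (MvPowerSeries (Fin n) k) :=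
  mem_max.2 (by simp)

/-- Coordinates adapted to `I`: the last `r` of them lie in `I` up to second order, and `r` is maximal. -/
structure Frame (I : Ideal (MvPowerSeries (Fin n) k)) where
  e : ℕ
  r : ℕ
  b : Module.Basis (Fin e ⊕ Fin r) k (Fin n → k)
  g : Fin r → MvPowerSeries (Fin n) k
  g_mem : ∀ l, g l ∈ I
  lp_g : ∀ l, lp (g l) = b (Sum.inr l)
  repr_mem : ∀ w ∈ I, ∀ a, b.repr (lp w) (Sum.inl a) = 0
  le_max : I ≤ maximalIdeal (MvPowerSeries (Fin n) k)

theorem exists_frame (I : Ideal (MvPowerSeries (Fin n) k)) (hI : I ≤ maximalIdeal _) : Nonempty (Frame I) := by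
  let S : Submodule k (Fin n → k) := (I.restrictScalars k).map lp
  obtain ⟨K, hK⟩ := exists_isCompl S
  let bK := Module.finBasis k K
  let bS := Module.finBasis k S
  have hmem : ∀ l, ∃ w ∈ I, lp w = (bS l : Fin n → k) := fun l => (bS l).2
  choose g hg hgl using hmem
  let b := (bK.prod bS).map (Submodule.prodEquivOfIsCompl K S hK.symm)
  refine ⟨⟨_, _, b, g, hg, fun l => ?_, fun w hw a => ?_, hI⟩⟩
  · simp [b, hgl, Submodule.coe_prodEquivOfIsCompl']
  · have hS : lp w ∈ S := ⟨w, hw, rfl⟩
    have h1 : (Submodule.prodEquivOfIsCompl K S hK.symm).symm (lp w) = (0, ⟨lp w, hS⟩) :=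
      Submodule.prodEquivOfIsCompl_symm_apply_right K S hK.symm ⟨lp w, hS⟩
    simp [b, h1]

namespace Frame

variable {I : Ideal (MvPowerSeries (Fin n) k)} (F : Frame I)

theorem card_eq : F.e + F.r = n := by
  have h := (Module.finrank_eq_card_basis F.b).symm
  simpa using h

def co (l : Fin F.e ⊕ Fin F.r) (i : Fin n) : k := F.b.repr (Pi.single i 1) l

/-- The derivations dual to the coordinates. -/
def D (l : Fin F.e ⊕ Fin F.r) : Derivation k (MvPowerSeries (Fin n) k) (MvPowerSeries (Fin n) k) :=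
  ∑ i, (C (F.co l i) : MvPowerSeries (Fin n) k) • pderiv k i

theorem D_apply (l) (w : MvPowerSeries (Fin n) k) : F.D l w = ∑ i, C (F.co l i) * pderiv k i w := by
  have hsum : ∀ (s : Finset (Fin n)),
      (∑ i ∈ s, (C (F.co l i) : MvPowerSeries (Fin n) k) • pderiv k i) w = ∑ i ∈ s, C (F.co l i) * pderiv k i w := by
    classical
    intro s
    induction s using Finset.induction_on with
    | empty => simp
    | insert i s hi ih => rw [Finset.sum_insert hi, Finset.sum_insert hi, Derivation.add_apply, ih,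
        Derivation.smul_apply, smul_eq_mul]
  exact hsum _

theorem D_C_mul (l) (c : k) (w : MvPowerSeries (Fin n) k) : F.D l (C c * w) = C c * F.D l w := by
  rw [Derivation.leibniz, F.D_apply l (C c)]
  simp

theorem co_D (l) (w : MvPowerSeries (Fin n) k) : constantCoeff (F.D l w) = F.b.repr (lp w) l := by
  conv_rhs => rw [← (Pi.basisFun k (Fin n)).sum_repr (lp w)]
  rw [map_sum, Finsupp.finset_sum_apply, F.D_apply, map_sum]
  refine Finset.sum_congr rfl fun i _ => ?_
  simp [co, lp, mul_comm, Pi.basisFun_apply]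

/-- The adapted coordinates. -/
def y (l : Fin F.e ⊕ Fin F.r) : MvPowerSeries (Fin n) k := ∑ i, C (F.b l i) * X i

theorem y_mem (l) : F.y l ∈ maximalIdeal (MvPowerSeries (Fin n) k) := mem_max.2 (by simp [y])

theorem lp_y (l) : lp (F.y l) = F.b l := funext fun i => by
  classical
  simp [y, lp, pderiv_X, Pi.single_apply, apply_ite constantCoeff, Finset.sum_ite_eq, Finset.sum_ite_eq']

theorem D_y (l l' : Fin F.e ⊕ Fin F.r) : constantCoeff (F.D l (F.y l')) = if l' = l then 1 else 0 := by
  classical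
  rw [F.co_D, F.lp_y, Module.Basis.repr_self, Finsupp.single_apply]

theorem X_eq (i : Fin n) : (X i : MvPowerSeries (Fin n) k) = ∑ l, C (F.co l i) * F.y l := by
  classical
  have h : ∀ j, ∑ l, F.co l i * F.b l j = Pi.single (M := fun _ => k) i 1 j := fun j => by
    have h1 := congrFun (F.b.sum_repr (Pi.single i 1)) j
    rw [Finset.sum_apply] at h1
    exact h1
  simp only [y, Finset.mul_sum, ← mul_assoc, ← map_mul]
  rw [Finset.sum_comm]
  simp only [← Finset.sum_mul, ← map_sum, h]
  rw [Finset.sum_eq_single i (fun j _ hj => by simp [Pi.single_eq_of_ne hj]) (by simp)]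
  simp

theorem max_eq : maximalIdeal (MvPowerSeries (Fin n) k) = Ideal.span (Set.range F.y) := by
  refine le_antisymm ?_ (Ideal.span_le.2 (Set.range_subset_iff.2 F.y_mem))
  rw [Groth.L01.PowSerReg.maximalIdeal_eq, Groth.L01.PowSerReg.varIdeal, Ideal.span_le]
  rintro _ ⟨i, rfl⟩
  rw [F.X_eq i]
  exact Submodule.sum_mem _ fun l _ => Ideal.mul_mem_left _ _ (Ideal.subset_span ⟨l, rfl⟩)

theorem eps_D_mul {p w : MvPowerSeries (Fin n) k} (l) (hw : constantCoeff w = 0) :
    constantCoeff (F.D l (p * w)) = constantCoeff p * constantCoeff (F.D l w) := by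
  rw [Derivation.leibniz, smul_eq_mul, smul_eq_mul, map_add, map_mul, map_mul, hw, zero_mul, add_zero]

theorem lin {w : MvPowerSeries (Fin n) k} (hw : constantCoeff w = 0) :
    w - ∑ l, C (constantCoeff (F.D l w)) * F.y l ∈ maximalIdeal _ ^ 2 := by
  classical
  have hw' : w ∈ Ideal.span (Set.range F.y) := F.max_eq ▸ mem_max.2 hw
  obtain ⟨c, hc⟩ := Ideal.mem_span_range_iff_exists_fun.1 hw'
  have h0 : ∀ l, constantCoeff (F.D l w) = constantCoeff (c l) := fun l => by
    rw [← hc, map_sum, map_sum, Finset.sum_eq_single l (fun l' _ hl => by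
      rw [F.eps_D_mul l (mem_max.1 (F.y_mem l')), F.D_y, if_neg hl, mul_zero]) (by simp),
      F.eps_D_mul l (mem_max.1 (F.y_mem l)), F.D_y, if_pos rfl, mul_one]
  simp only [h0]
  nth_rw 1 [← hc]
  rw [← Finset.sum_sub_distrib, pow_two]
  refine Submodule.sum_mem _ fun l _ => ?_
  rw [← sub_mul]
  exact Ideal.mul_mem_mul (sub_C_mem _) (F.y_mem l)

theorem eps_D_sq {w : MvPowerSeries (Fin n) k} (hw : w ∈ maximalIdeal _ ^ 2) (l) : constantCoeff (F.D l w) = 0 := by
  rw [pow_two] at hw
  refine Submodule.mul_induction_on hw (fun p hp q hq => ?_) (fun p q hp hq => ?_)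
  · rw [F.eps_D_mul l (mem_max.1 hq), mem_max.1 hp, zero_mul]
  · rw [map_add, map_add, hp, hq, add_zero]

theorem eps_D_g (l) (l' : Fin F.r) : constantCoeff (F.D l (F.g l')) = if Sum.inr l' = l then 1 else 0 := by
  classical
  rw [F.co_D, F.lp_g, Module.Basis.repr_self, Finsupp.single_apply]

theorem eps_g (l : Fin F.r) : constantCoeff (F.g l) = 0 := mem_max.1 (F.le_max (F.g_mem l))

theorem y_inr_sub (l : Fin F.r) : F.y (Sum.inr l) - F.g l ∈ maximalIdeal _ ^ 2 := by
  classical
  have h := F.lin (F.eps_g l)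
  simp only [F.eps_D_g] at h
  rw [Finset.sum_eq_single (Sum.inr l) (fun l' _ hl => by simp [Ne.symm hl]) (by simp), if_pos rfl, map_one, one_mul] at h
  simpa using neg_mem h

theorem y_inr_mem (l : Fin F.r) : F.y (Sum.inr l) ∈ I ⊔ maximalIdeal _ ^ 2 := by
  have := add_mem (Submodule.mem_sup_left (F.g_mem l)) (Submodule.mem_sup_right (S := I) (F.y_inr_sub l))
  simpa using this

theorem eps_D_mem {w : MvPowerSeries (Fin n) k} (hw : w ∈ I ⊔ maximalIdeal _ ^ 2) (a : Fin F.e) :
    constantCoeff (F.D (Sum.inl a) w) = 0 := by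
  obtain ⟨p, hp, q, hq, rfl⟩ := Submodule.mem_sup.1 hw
  rw [map_add, map_add, F.eps_D_sq hq, F.co_D, F.repr_mem p hp a, add_zero]

theorem lin_inl {w : MvPowerSeries (Fin n) k} (hw : constantCoeff w = 0) :
    w - ∑ a, C (constantCoeff (F.D (Sum.inl a) w)) * F.y (Sum.inl a) ∈ I ⊔ maximalIdeal _ ^ 2 := by
  have h := F.lin hw
  rw [Fintype.sum_sum_type] at h
  have h2 : ∑ l, C (constantCoeff (F.D (Sum.inr l) w)) * F.y (Sum.inr l) ∈ I ⊔ maximalIdeal _ ^ 2 :=
    Submodule.sum_mem _ fun l _ => Ideal.mul_mem_left _ _ (F.y_inr_mem l)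
  convert add_mem (Submodule.mem_sup_right (S := I) h) h2 using 1
  ring

theorem max_le : maximalIdeal (MvPowerSeries (Fin n) k) ≤
    Ideal.span (Set.range fun a => F.y (Sum.inl a)) ⊔ (I ⊔ maximalIdeal _ ^ 2) := fun w hw => by
  have h := add_mem (Submodule.mem_sup_left (T := I ⊔ maximalIdeal _ ^ 2)
    (Submodule.sum_mem _ fun a (_ : a ∈ Finset.univ) => Ideal.mul_mem_left
      (Ideal.span (Set.range fun a => F.y (Sum.inl a))) (C (constantCoeff (F.D (Sum.inl a) w)))
      (Ideal.subset_span ⟨a, rfl⟩)))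
    (Submodule.mem_sup_right (S := Ideal.span (Set.range fun a => F.y (Sum.inl a))) (F.lin_inl (mem_max.1 hw)))
  simpa using h

/-- Subtract the part along `g`. -/
def red (w : MvPowerSeries (Fin n) k) : MvPowerSeries (Fin n) k :=
  w - ∑ l, C (constantCoeff (F.D (Sum.inr l) w)) * F.g l

theorem red_mem {w : MvPowerSeries (Fin n) k} (hw : w ∈ I) : F.red w ∈ I :=
  sub_mem hw (Submodule.sum_mem _ fun l _ => Ideal.mul_mem_left _ _ (F.g_mem l))

theorem red_mem_sq {w : MvPowerSeries (Fin n) k} (hw : w ∈ I) : F.red w ∈ maximalIdeal _ ^ 2 := by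
  classical
  have h0 : ∀ l, constantCoeff (F.D l (F.red w)) = 0 := by
    intro l
    rw [red, map_sub, map_sub, map_sum, map_sum]
    simp only [F.eps_D_mul _ (F.eps_g _), constantCoeff_C, F.eps_D_g]
    cases l with
    | inl a => simp [F.co_D, F.repr_mem w hw a]
    | inr l => simp
  simpa [h0] using F.lin (mem_max.1 (F.le_max (F.red_mem hw)))

theorem mem_of_generators {m : ℕ} (f : Fin m → MvPowerSeries (Fin n) k) (hf : I = Ideal.span (Set.range f)) :
    Ideal.span (Set.range (Sum.elim F.g fun j => F.red (f j))) = I := by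
  have hfI : ∀ j, f j ∈ I := fun j => hf ▸ Ideal.subset_span ⟨j, rfl⟩
  refine le_antisymm (Ideal.span_le.2 ?_) (hf.le.trans (Ideal.span_le.2 ?_))
  · rintro _ ⟨j | j, rfl⟩
    · exact F.g_mem j
    · exact F.red_mem (hfI j)
  · rintro _ ⟨j, rfl⟩
    have h := add_mem (Ideal.subset_span (s := Set.range (Sum.elim F.g fun j => F.red (f j))) ⟨Sum.inr j, rfl⟩)
      (Submodule.sum_mem _ fun l (_ : l ∈ Finset.univ) => Ideal.mul_mem_left _
        (C (constantCoeff (F.D (Sum.inr l) (f j))))
        (Ideal.subset_span (s := Set.range (Sum.elim F.g fun j => F.red (f j))) ⟨Sum.inl l, rfl⟩))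
    simpa [red] using h

end Frame

end Groth.L06.NodeMinors
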