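import Groth.Agent.L06.NodeMinors.Minors
import Groth.Agent.L21.Nodal.QuadBasic

/-! The Hessian in adapted coordinates and the minor condition. -/

set_option autoImplicit false
set_option linter.style.haveILetI false
universe u

open IsLocalRing MvPowerSeries
open Groth.L21.Nodal (qf)

noncomputable section

namespace Groth.L06.NodeMinors.Frame

variable {k : Type u} [Field k] {n m : ℕ} {I : Ideal (MvPowerSeries (Fin n) k)} (F : Frame I)

/-- A functional killing generators of the maximal ideal modulo `I ⊔ 𝔪²` is zero. -/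
theorem kill {ι : Type*} (u : ι → MvPowerSeries (Fin n) k) (hu : ∀ i, constantCoeff (u i) = 0)
    (h : maximalIdeal _ ≤ Ideal.span (Set.range u) ⊔ (I ⊔ maximalIdeal _ ^ 2))
    (c : Fin F.e → k) (hc : ∀ i, ∑ b, c b * constantCoeff (F.D (Sum.inl b) (u i)) = 0) : c = 0 := by
  classical
  funext b₀
  have key : ∀ w ∈ Ideal.span (Set.range u), constantCoeff w = 0 ∧
      ∑ b, c b * constantCoeff (F.D (Sum.inl b) w) = 0 := by
    intro w hw
    induction hw using Submodule.span_induction with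
    | mem x hx => obtain ⟨i, rfl⟩ := hx; exact ⟨hu i, hc i⟩
    | zero => simp
    | add x y _ _ hx hy => simp only [map_add, mul_add, Finset.sum_add_distrib, hx.1, hy.1, hx.2, hy.2, add_zero, and_self]
    | smul p x _ hx =>
      refine ⟨by rw [smul_eq_mul, map_mul, hx.1, mul_zero], ?_⟩
      simp only [smul_eq_mul, F.eps_D_mul _ hx.1, mul_left_comm _ (constantCoeff p), ← Finset.mul_sum, hx.2, mul_zero]
  obtain ⟨p, hp, q, hq, hpq⟩ := Submodule.mem_sup.1 (h (F.y_mem (Sum.inl b₀)))
  have h1 : ∑ b, c b * constantCoeff (F.D (Sum.inl b) (F.y (Sum.inl b₀))) = c b₀ := by simp [F.D_y]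
  rw [← h1, ← hpq]
  simp [mul_add, Finset.sum_add_distrib, (key p hp).2, F.eps_D_mem hq]

theorem e_le {d : ℕ} (u : Fin d → MvPowerSeries (Fin n) k) (hu : ∀ i, constantCoeff (u i) = 0)
    (h : maximalIdeal _ ≤ Ideal.span (Set.range u) ⊔ (I ⊔ maximalIdeal _ ^ 2)) : F.e ≤ d := by
  let T : Matrix (Fin d) (Fin F.e) k := Matrix.of fun i b => constantCoeff (F.D (Sum.inl b) (u i))
  have hT : Function.Injective T.mulVecLin := (injective_iff_map_eq_zero _).2 fun c hc =>
    F.kill u hu h c fun i => by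
      have := congrFun hc i
      simpa [T, Matrix.mulVec, dotProduct, mul_comm] using this
  simpa using LinearMap.finrank_le_finrank_of_injective hT

variable {f : Fin m → MvPowerSeries (Fin n) k}

theorem e_eq_two (hf : I = Ideal.span (Set.range f))
    (hJ : minorIdeal f = maximalIdeal (MvPowerSeries (Fin n) k)) : F.e = 2 := by
  have hce := F.card_eq
  have hlt : F.r < n - 1 := by
    by_contra h
    exact (maximalIdeal.isMaximal _).ne_top (hJ ▸ F.minorIdeal_eq_top hf (not_lt.1 h))
  rcases Nat.lt_or_ge F.e 3 with h3 | h3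
  · omega
  have h0 := F.e_le (d := 0) ![] (fun i => i.elim0) ((hJ ▸ F.minorIdeal_le_of_lt hf hlt
    (I ⊔ maximalIdeal _ ^ 2) le_sup_left le_sup_right fun he => by omega).trans le_sup_right)
  omega

section Two

variable (he : F.e = 2)

def z (i : Fin 2) : MvPowerSeries (Fin n) k := F.y (Sum.inl (Fin.cast he.symm i))

def d (i : Fin 2) : Derivation k (MvPowerSeries (Fin n) k) (MvPowerSeries (Fin n) k) :=
  F.D (Sum.inl (Fin.cast he.symm i))

theorem z_mem (i : Fin 2) : F.z he i ∈ maximalIdeal _ := F.y_mem _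

theorem d_z (i j : Fin 2) : constantCoeff (F.d he i (F.z he j)) = if j = i then 1 else 0 := by
  rw [d, z, F.D_y]
  simp [Sum.inl.injEq, Fin.ext_iff]

theorem cast_surj : Function.Surjective (Fin.cast he.symm) := (finCongr he.symm).surjective

theorem range_inl : Set.range (fun a => F.y (Sum.inl a)) = {F.z he 0, F.z he 1} := by
  rw [← (F.cast_surj he).range_comp fun a => F.y (Sum.inl a)]
  ext w
  simp [z, Fin.exists_fin_two, eq_comm]

theorem max_le_two : maximalIdeal (MvPowerSeries (Fin n) k) ≤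
    Ideal.span {F.z he 0, F.z he 1} ⊔ (I ⊔ maximalIdeal _ ^ 2) := F.range_inl he ▸ F.max_le

theorem sum_inl {M : Type*} [AddCommMonoid M] (G : Fin F.e → M) :
    ∑ a, G a = G (Fin.cast he.symm 0) + G (Fin.cast he.symm 1) := by
  rw [← (finCongr he.symm).sum_comp, Fin.sum_univ_two]
  rfl

theorem lin_two {w : MvPowerSeries (Fin n) k} (hw : constantCoeff w = 0) :
    w - (C (constantCoeff (F.d he 0 w)) * F.z he 0 + C (constantCoeff (F.d he 1 w)) * F.z he 1) ∈
      I ⊔ maximalIdeal _ ^ 2 := by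
  have h := F.lin_inl hw
  rw [F.sum_inl he fun a => C (constantCoeff (F.D (Sum.inl a) w)) * F.y (Sum.inl a)] at h
  exact h

theorem kill_two {ι : Type*} (u : ι → MvPowerSeries (Fin n) k) (hu : ∀ i, constantCoeff (u i) = 0)
    (h : maximalIdeal _ ≤ Ideal.span (Set.range u) ⊔ (I ⊔ maximalIdeal _ ^ 2))
    (c₀ c₁ : k) (hc : ∀ i, c₀ * constantCoeff (F.d he 0 (u i)) + c₁ * constantCoeff (F.d he 1 (u i)) = 0) :
    c₀ = 0 ∧ c₁ = 0 := by
  let c : Fin F.e → k := fun a => ![c₀, c₁] (Fin.cast he a)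
  have h1 := F.kill u hu h c fun i => by
    rw [F.sum_inl he fun b => c b * constantCoeff (F.D (Sum.inl b) (u i))]
    simpa [c, d] using hc i
  exact ⟨by simpa [c] using congrFun h1 (Fin.cast he.symm 0), by simpa [c] using congrFun h1 (Fin.cast he.symm 1)⟩

/-- Second derivatives at the origin. -/
def hess (a b : Fin 2) (w : MvPowerSeries (Fin n) k) : k := constantCoeff (F.d he b (F.d he a w))

theorem hess_add (a b) (v w : MvPowerSeries (Fin n) k) : F.hess he a b (v + w) = F.hess he a b v + F.hess he a b w := by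
  simp [hess]

theorem hess_sum {ι : Type*} (s : Finset ι) (a b) (w : ι → MvPowerSeries (Fin n) k) :
    F.hess he a b (∑ i ∈ s, w i) = ∑ i ∈ s, F.hess he a b (w i) := by
  simp [hess]

theorem hess_mul (a b) {p q : MvPowerSeries (Fin n) k} (hq : constantCoeff q = 0) :
    F.hess he a b (p * q) = constantCoeff p * F.hess he a b q +
      constantCoeff (F.d he a q) * constantCoeff (F.d he b p) + constantCoeff (F.d he a p) * constantCoeff (F.d he b q) := by
  simp only [hess, Derivation.leibniz, map_add, smul_eq_mul, map_mul, hq]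
  ring

theorem hess_C_mul (a b) (c : k) (w : MvPowerSeries (Fin n) k) :
    F.hess he a b (C c * w) = c * F.hess he a b w := by
  simp only [hess, d, F.D_C_mul, map_mul, constantCoeff_C]

theorem hess_mul_mem (a b) {p q : MvPowerSeries (Fin n) k} (hq : constantCoeff q = 0)
    (hdq : ∀ i, constantCoeff (F.d he i q) = 0) : F.hess he a b (p * q) = constantCoeff p * F.hess he a b q := by
  simp [F.hess_mul he a b hq, hdq]

/-- The part of second order which does not contribute to the Hessian. -/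
def negl : Ideal (MvPowerSeries (Fin n) k) := maximalIdeal _ * (I ⊔ maximalIdeal _ ^ 2)

theorem hess_negl {w : MvPowerSeries (Fin n) k} (hw : w ∈ negl (I := I)) (a b : Fin 2) :
    F.hess he a b w = 0 := by
  refine Submodule.mul_induction_on hw (fun p hp q hq => ?_) (fun p q hp hq => by rw [F.hess_add, hp, hq, add_zero])
  have hq0 : constantCoeff q = 0 := mem_max.1 ((sup_le F.le_max (Ideal.pow_le_self two_ne_zero)) hq)
  rw [F.hess_mul_mem he a b hq0 fun i => F.eps_D_mem hq _, mem_max.1 hp, zero_mul]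

/-- The quadratic form with coefficients `v` in the two coordinates. -/
def quad (v : Fin 3 → k) : MvPowerSeries (Fin n) k :=
  qf (C (v 0)) (C (v 1)) (C (v 2)) (F.z he 0) (F.z he 1)

theorem hess_qf (a b : Fin 2) (p q s : k) (u v : MvPowerSeries (Fin n) k) (hu : constantCoeff u = 0)
    (hv : constantCoeff v = 0) : F.hess he a b (qf (C p) (C q) (C s) u v) =
      2 * p * (constantCoeff (F.d he a u) * constantCoeff (F.d he b u)) +
      q * (constantCoeff (F.d he a u) * constantCoeff (F.d he b v) + constantCoeff (F.d he a v) * constantCoeff (F.d he b u)) +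
      2 * s * (constantCoeff (F.d he a v) * constantCoeff (F.d he b v)) := by
  simp only [qf, pow_two, F.hess_add, F.hess_C_mul, F.hess_mul he a b hu, F.hess_mul he a b hv, hu, hv]
  ring

theorem exists_quad {w : MvPowerSeries (Fin n) k} (hw : w ∈ maximalIdeal _ ^ 2) :
    ∃ v, w - F.quad he v ∈ negl (I := I) := by
  rw [pow_two] at hw
  refine Submodule.mul_induction_on hw (fun p hp q hq => ?_) (fun p q ⟨v, hv⟩ ⟨v', hv'⟩ => ?_)
  · let α := constantCoeff (F.d he 0 p)
    let β := constantCoeff (F.d he 1 p)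
    let γ := constantCoeff (F.d he 0 q)
    let δ := constantCoeff (F.d he 1 q)
    let p' := C α * F.z he 0 + C β * F.z he 1
    let q' := C γ * F.z he 0 + C δ * F.z he 1
    have hp' : p' ∈ maximalIdeal _ := add_mem (Ideal.mul_mem_left _ _ (F.z_mem he 0)) (Ideal.mul_mem_left _ _ (F.z_mem he 1))
    have hpd : p - p' ∈ I ⊔ maximalIdeal _ ^ 2 := F.lin_two he (mem_max.1 hp)
    have hqd : q - q' ∈ I ⊔ maximalIdeal _ ^ 2 := F.lin_two he (mem_max.1 hq)
    refine ⟨![α * γ, α * δ + β * γ, β * δ], ?_⟩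
    have h : p * q - F.quad he ![α * γ, α * δ + β * γ, β * δ] = q * (p - p') + p' * (q - q') := by
      simp only [quad, qf, p', q', Matrix.cons_val_zero, Matrix.cons_val_one, Matrix.cons_val, map_add, map_mul]
      ring
    rw [h]
    exact add_mem (Ideal.mul_mem_mul hq hpd) (Ideal.mul_mem_mul hp' hqd)
  · refine ⟨v + v', ?_⟩
    convert add_mem hv hv' using 1
    simp only [quad, qf, Pi.add_apply, map_add]
    ring

theorem hess_eq_quad {w : MvPowerSeries (Fin n) k} {v : Fin 3 → k} (hv : w - F.quad he v ∈ negl (I := I)) :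
    F.hess he 0 0 w = 2 * v 0 ∧ F.hess he 0 1 w = v 1 ∧ F.hess he 1 0 w = v 1 ∧ F.hess he 1 1 w = 2 * v 2 := by
  have h : ∀ a b, F.hess he a b w = F.hess he a b (F.quad he v) := fun a b => by
    rw [← sub_add_cancel w (F.quad he v), F.hess_add, F.hess_negl he hv, zero_add]
  simp only [h, quad, F.hess_qf he _ _ _ _ _ _ _ (mem_max.1 (F.z_mem he 0)) (mem_max.1 (F.z_mem he 1)), F.d_z]
  simp

/-- The condition on minors, read off from the Hessians. -/
theorem hess_kill (hf : I = Ideal.span (Set.range f))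
    (hJ : minorIdeal f = maximalIdeal (MvPowerSeries (Fin n) k)) (c₀ c₁ : k)
    (hc : ∀ j a, c₀ * F.hess he a 0 (F.red (f j)) + c₁ * F.hess he a 1 (F.red (f j)) = 0) : c₀ = 0 ∧ c₁ = 0 := by
  have hn := F.card_eq
  refine F.kill_two he (fun ja : Fin m × Fin 2 => F.d he ja.2 (F.red (f ja.1)))
    (fun ja => F.eps_D_sq (F.red_mem_sq (hf ▸ Ideal.subset_span ⟨_, rfl⟩)) _) ?_ c₀ c₁ fun ja => hc ja.1 ja.2
  rw [← hJ]
  refine F.minorIdeal_le_of_lt hf (by omega) _ (le_sup_left.trans le_sup_right)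
    (hJ ▸ le_sup_right.trans le_sup_right) fun _ j a => ?_
  obtain ⟨i, rfl⟩ := F.cast_surj he a
  exact Submodule.mem_sup_left (Ideal.subset_span ⟨(j, i), rfl⟩)

theorem minorIdeal_eq (hf : I = Ideal.span (Set.range f)) (c : Fin m → k)
    (hdet : (∑ j, c j * F.hess he 0 0 (F.red (f j))) * (∑ j, c j * F.hess he 1 1 (F.red (f j))) -
      (∑ j, c j * F.hess he 0 1 (F.red (f j))) * (∑ j, c j * F.hess he 1 0 (F.red (f j))) ≠ 0) :
    minorIdeal f = maximalIdeal (MvPowerSeries (Fin n) k) := by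
  have hn := F.card_eq
  have hsq : maximalIdeal (MvPowerSeries (Fin n) k) ^ 2 ≤ maximalIdeal _ := Ideal.pow_le_self two_ne_zero
  have hfI : ∀ j, F.red (f j) ∈ maximalIdeal (MvPowerSeries (Fin n) k) ^ 2 := fun j =>
    F.red_mem_sq (hf ▸ Ideal.subset_span ⟨_, rfl⟩)
  refine le_antisymm (F.minorIdeal_le_of_lt hf (by omega) _ F.le_max hsq fun _ j a => ?_) ?_
  · exact mem_max.2 (F.eps_D_sq (hfI j) _)
  refine Submodule.le_of_le_smul_of_le_jacobson_bot (IsNoetherian.noetherian _) (maximalIdeal_le_jacobson ⊥) ?_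
  rw [smul_eq_mul, ← pow_two]
  have hIJ : I ⊔ maximalIdeal _ ^ 2 ≤ minorIdeal f ⊔ maximalIdeal (MvPowerSeries (Fin n) k) ^ 2 :=
    sup_le_sup_right (hf.le.trans le_sup_right) _
  let W : Fin 2 → MvPowerSeries (Fin n) k := fun a => ∑ j, C (c j) * F.d he a (F.red (f j))
  let K : Fin 2 → Fin 2 → k := fun a b => ∑ j, c j * F.hess he a b (F.red (f j))
  have hW : ∀ a, W a ∈ minorIdeal f ⊔ maximalIdeal (MvPowerSeries (Fin n) k) ^ 2 := fun a =>
    Submodule.sum_mem _ fun j _ => Ideal.mul_mem_left _ _ (F.D_red_mem hf (by omega) j _)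
  have hK : ∀ a, C (K a 0) * F.z he 0 + C (K a 1) * F.z he 1 ∈ minorIdeal f ⊔ maximalIdeal _ ^ 2 := fun a => by
    have hdW : ∀ b, constantCoeff (F.d he b (W a)) = K a b := fun b => by
      simp only [W, K, map_sum]
      refine Finset.sum_congr rfl fun j _ => ?_
      rw [d, F.D_C_mul, map_mul, constantCoeff_C]
      rfl
    have hW0 : constantCoeff (W a) = 0 := by
      simp only [W, map_sum, map_mul]
      exact Finset.sum_eq_zero fun j _ => by rw [d, F.eps_D_sq (hfI j), mul_zero]
    have h1 := sub_mem (hW a) (hIJ (F.lin_two he hW0))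
    rw [hdW, hdW] at h1
    simpa using h1
  have hu : IsUnit (C (K 0 0 * K 1 1 - K 0 1 * K 1 0) : MvPowerSeries (Fin n) k) := (IsUnit.mk0 _ hdet).map _
  refine (F.max_le_two he).trans (sup_le (Ideal.span_le.2 ?_) hIJ)
  rintro _ (rfl | rfl) <;> refine (Submodule.smul_mem_iff_of_isUnit _ hu).1 ?_
  · convert sub_mem (Ideal.mul_mem_left _ (C (K 1 1)) (hK 0)) (Ideal.mul_mem_left _ (C (K 0 1)) (hK 1)) using 1
    simp only [smul_eq_mul, map_sub, map_mul]
    ring
  · convert sub_mem (Ideal.mul_mem_left _ (C (K 0 0)) (hK 1)) (Ideal.mul_mem_left _ (C (K 1 0)) (hK 0)) using 1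
    simp only [smul_eq_mul, map_sub, map_mul]
    ring

/-- A quadratic relation decomposes along the generators. -/
theorem exists_hess_comb (hf : I = Ideal.span (Set.range f)) {w : MvPowerSeries (Fin n) k} (hw : w ∈ I)
    (hw2 : w ∈ maximalIdeal _ ^ 2) :
    ∃ c : Fin m → k, ∀ a b, F.hess he a b w = ∑ j, c j * F.hess he a b (F.red (f j)) := by
  classical
  have hw' : w ∈ Ideal.span (Set.range (Sum.elim F.g fun j => F.red (f j))) := by
    rw [F.mem_of_generators f hf]; exact hw
  obtain ⟨p, hp⟩ := Ideal.mem_span_range_iff_exists_fun.1 hw'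
  rw [Fintype.sum_sum_type] at hp
  simp only [Sum.elim_inl, Sum.elim_inr] at hp
  have h0 : ∀ j, constantCoeff (F.red (f j)) = 0 := fun j =>
    mem_max.1 (F.le_max (F.red_mem (hf ▸ Ideal.subset_span ⟨_, rfl⟩)))
  have hd0 : ∀ j l, constantCoeff (F.D l (F.red (f j))) = 0 := fun j l =>
    F.eps_D_sq (F.red_mem_sq (hf ▸ Ideal.subset_span ⟨_, rfl⟩)) l
  have hp0 : ∀ l, constantCoeff (p (Sum.inl l)) = 0 := fun l => by
    have h := F.eps_D_sq hw2 (Sum.inr l)
    rw [← hp] at h
    simpa [F.eps_D_mul _ (F.eps_g _), F.eps_D_mul _ (h0 _), F.eps_D_g, hd0, F.eps_g, h0] using h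
  refine ⟨fun j => constantCoeff (p (Sum.inr j)), fun a b => ?_⟩
  rw [← hp, F.hess_add, F.hess_sum, F.hess_sum, Finset.sum_eq_zero (fun l _ => by
    rw [F.hess_mul_mem he a b (F.eps_g l) (fun i => F.eps_D_mem (Submodule.mem_sup_left (F.g_mem l)) _), hp0, zero_mul]),
    zero_add]
  exact Finset.sum_congr rfl fun j _ => F.hess_mul_mem he a b (h0 j) fun i => hd0 j _

end Two

end Groth.L06.NodeMinors.Frame
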