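import Groth.Agent.L06.NodeMinors.Hessian
import Groth.Agent.L21.Nodal.AlgNode
import Groth.Agent.L01.NagataComplete
import Groth.Agent.L01.DepthBasic
import Groth.Agent.L04.CMBasic
import Groth.Agent.L12.PowSer
import Mathlib.RingTheory.KrullDimension.Module
import Mathlib.RingTheory.Ideal.Quotient.Operations

/-! Nodes among quotients of power series rings. -/

set_option autoImplicit false
set_option linter.style.haveILetI false
set_option backward.isDefEq.respectTransparency false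
universe u

open IsLocalRing MvPowerSeries
open Groth.L21.Nodal (qf)

noncomputable section

namespace Groth.L06.NodeMinors

variable {k : Type u} [Field k] {n m : ℕ}

theorem disc_kill (p q s : k) (h : 4 * p * s - q ^ 2 = 0) :
    ∃ c₀ c₁ : k, (c₀ ≠ 0 ∨ c₁ ≠ 0) ∧ c₀ * (2 * p) + c₁ * q = 0 ∧ c₀ * q + c₁ * (2 * s) = 0 := by
  by_cases hz : 2 * p = 0 ∧ q = 0
  · exact ⟨1, 0, Or.inl one_ne_zero, by simp [hz.1], by simp [hz.2]⟩
  · refine ⟨q, -(2 * p), ?_, by ring, by linear_combination -h⟩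
    by_cases hq : q = 0
    · exact Or.inr fun h2 => hz ⟨neg_eq_zero.1 h2, hq⟩
    · exact Or.inl hq

section Transfer

variable {I : Ideal (MvPowerSeries (Fin n) k)}

theorem isLocalRing_quotient (hI : I ≤ maximalIdeal _) : IsLocalRing (MvPowerSeries (Fin n) k ⧸ I) := by
  haveI : Nontrivial (MvPowerSeries (Fin n) k ⧸ I) :=
    Ideal.Quotient.nontrivial_iff.2 (ne_top_of_le_ne_top (maximalIdeal.isMaximal _).ne_top hI)
  exact IsLocalRing.of_surjective' (Ideal.Quotient.mk I) Ideal.Quotient.mk_surjective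

variable [IsLocalRing (MvPowerSeries (Fin n) k ⧸ I)]

theorem map_max : (maximalIdeal (MvPowerSeries (Fin n) k)).map (Ideal.Quotient.mk I) =
    maximalIdeal (MvPowerSeries (Fin n) k ⧸ I) :=
  IsLocalRing.map_maximalIdeal_of_surjective _ Ideal.Quotient.mk_surjective

theorem mk_mem_pow {w : MvPowerSeries (Fin n) k} (j : ℕ) (hw : w ∈ I ⊔ maximalIdeal _ ^ j) :
    Ideal.Quotient.mk I w ∈ maximalIdeal (MvPowerSeries (Fin n) k ⧸ I) ^ j := by
  obtain ⟨p, hp, q, hq, rfl⟩ := Submodule.mem_sup.1 hw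
  rw [map_add, Ideal.Quotient.eq_zero_iff_mem.2 hp, zero_add, ← map_max, ← Ideal.map_pow]
  exact Ideal.mem_map_of_mem _ hq

/-- Generators modulo the square generate. -/
theorem span_eq_max (s : Set (MvPowerSeries (Fin n) k)) (hs : s ⊆ maximalIdeal (MvPowerSeries (Fin n) k))
    (h : maximalIdeal _ ≤ Ideal.span s ⊔ (I ⊔ maximalIdeal _ ^ 2)) :
    Ideal.span (Ideal.Quotient.mk I '' s) = maximalIdeal (MvPowerSeries (Fin n) k ⧸ I) := by
  refine le_antisymm ?_ (Submodule.le_of_le_smul_of_le_jacobson_bot (IsNoetherian.noetherian _)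
    (maximalIdeal_le_jacobson ⊥) ?_)
  · rw [← map_max, ← Ideal.map_span]
    exact Ideal.map_mono (Ideal.span_le.2 hs)
  · rw [smul_eq_mul, ← pow_two]
    conv_lhs => rw [← map_max]
    refine (Ideal.map_mono h).trans ?_
    rw [Ideal.map_sup, Ideal.map_sup, Ideal.map_quotient_self, bot_sup_eq, Ideal.map_span, Ideal.map_pow, map_max]

theorem two_le_e (F : Frame I) (hnp : ¬ (maximalIdeal (MvPowerSeries (Fin n) k ⧸ I)).IsPrincipal) : 2 ≤ F.e := by
  by_contra h
  haveI : Subsingleton (Fin F.e) := Fin.subsingleton_iff_le_one.2 (by omega)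
  have hs := span_eq_max _ (Set.range_subset_iff.2 fun a => F.y_mem _) F.max_le
  rcases isEmpty_or_nonempty (Fin F.e) with he | ⟨⟨a⟩⟩
  · refine hnp ?_
    rw [← hs, Set.range_eq_empty, Set.image_empty, Ideal.span_empty]
    exact bot_isPrincipal
  · refine hnp ⟨⟨Ideal.Quotient.mk I (F.y (Sum.inl a)), ?_⟩⟩
    rw [← hs]
    rw [Ideal.submodule_span_eq]
    congr 1
    ext w
    constructor
    · rintro ⟨_, ⟨b, rfl⟩, rfl⟩
      rw [Subsingleton.elim b a]
      rfl
    · rintro rfl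
      exact ⟨_, ⟨a, rfl⟩, rfl⟩

theorem not_principal (F : Frame I) (h2 : 2 ≤ F.e) :
    ¬ (maximalIdeal (MvPowerSeries (Fin n) k ⧸ I)).IsPrincipal := by
  rintro ⟨⟨g, hg⟩⟩
  obtain ⟨g', rfl⟩ := Ideal.Quotient.mk_surjective g
  rw [Ideal.submodule_span_eq] at hg
  have hg' : g' ∈ maximalIdeal (MvPowerSeries (Fin n) k) := by
    by_contra h
    exact (mem_maximalIdeal _).1 (hg.symm ▸ Ideal.mem_span_singleton_self _) ((notMem_maximalIdeal.1 h).map _)
  have h := F.e_le ![g'] (fun i => by fin_cases i; exact mem_max.1 hg') (fun w hw => ?_)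
  · omega
  · have h1 : Ideal.Quotient.mk I w ∈ maximalIdeal (MvPowerSeries (Fin n) k ⧸ I) := map_max (I := I) ▸ Ideal.mem_map_of_mem _ hw
    rw [hg, Ideal.mem_span_singleton'] at h1
    obtain ⟨a, ha⟩ := h1
    obtain ⟨a, rfl⟩ := Ideal.Quotient.mk_surjective a
    rw [← map_mul, eq_comm, Ideal.Quotient.eq] at ha
    refine Submodule.mem_sup.2 ⟨a * g', Ideal.mul_mem_left _ _ (Ideal.subset_span ⟨0, rfl⟩), _,
      Submodule.mem_sup_left ha, by ring⟩

end Transfer

/-- If `m² = (w)` and `𝔪` contains a nonzerodivisor, `𝔪` is principal. -/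
theorem isPrincipal_of_sq {R : Type u} [CommRing R] [IsLocalRing R] (w z : R) (hw : maximalIdeal R ^ 2 = Ideal.span {w})
    (hz : z ∈ maximalIdeal R) (hreg : ∀ s, z * s = 0 → s = 0) : (maximalIdeal R).IsPrincipal := by
  obtain ⟨t, ht⟩ := Ideal.mem_span_singleton'.1 (hw ▸ Ideal.pow_mem_pow hz 2)
  have hwreg : ∀ s, w * s = 0 → s = 0 := fun s hs => hreg s (hreg _ (by linear_combination t * hs - s * ht))
  have hmul : ∀ p ∈ maximalIdeal R, ∀ q ∈ maximalIdeal R, ∃ c, c * w = p * q := fun p hp q hq =>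
    Ideal.mem_span_singleton'.1 (hw ▸ (pow_two (maximalIdeal R)).symm ▸ Ideal.mul_mem_mul hp hq)
  by_cases hall : ∀ p ∈ maximalIdeal R, ∀ q ∈ maximalIdeal R, p * q ∈ Ideal.span {w} * maximalIdeal R
  · have hwm : w ∈ Ideal.span {w} * maximalIdeal R :=
      (Ideal.mul_le.2 hall) (pow_two (maximalIdeal R) ▸ hw.symm ▸ Ideal.mem_span_singleton_self w)
    obtain ⟨c, hc, hcw⟩ := Ideal.mem_span_singleton_mul.1 hwm
    have hu : IsUnit (c - 1) := by
      refine notMem_maximalIdeal.1 fun h => ?_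
      have := sub_mem hc h
      rw [sub_sub_cancel] at this
      exact (maximalIdeal.isMaximal R).ne_top ((Ideal.eq_top_iff_one _).2 this)
    have := hwreg _ (show w * (c - 1) = 0 by linear_combination hcw)
    exact absurd (this ▸ hu) not_isUnit_zero
  · push Not at hall
    obtain ⟨a, ha, b, hb, hab⟩ := hall
    obtain ⟨v, hv⟩ := hmul a ha b hb
    have hvu : IsUnit v := by
      refine notMem_maximalIdeal.1 fun h => hab ?_
      rw [← hv, mul_comm v w]
      exact Ideal.mul_mem_mul (Ideal.mem_span_singleton_self w) h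
    obtain ⟨v', hv'⟩ := hvu.exists_left_inv
    refine ⟨⟨a, le_antisymm (fun x hx => ?_) ((Ideal.span_singleton_le_iff_mem _).2 ha)⟩⟩
    obtain ⟨c, hc⟩ := hmul x hx b hb
    refine Ideal.mem_span_singleton'.2 ⟨v' * c, ?_⟩
    have := hwreg (v * x - c * a) (by linear_combination x * hv - a * hc)
    linear_combination (-v') * this + x * hv'

/-- The node criterion from minors and a nonzerodivisor. -/
theorem exists_iso (f : Fin m → MvPowerSeries (Fin n) k) (hf : ∀ j, f j ∈ maximalIdeal (MvPowerSeries (Fin n) k))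
    (hJ : minorIdeal f = maximalIdeal (MvPowerSeries (Fin n) k))
    (hz : ∃ z ∈ maximalIdeal (MvPowerSeries (Fin n) k), ∀ s, z * s ∈ Ideal.span (Set.range f) → s ∈ Ideal.span (Set.range f)) :
    ∃ a b c : k, 4 * a * c - b ^ 2 ≠ 0 ∧
      Nonempty ((MvPowerSeries (Fin n) k ⧸ Ideal.span (Set.range f)) ≃ₐ[k]
        (MvPowerSeries (Fin 2) k ⧸ Ideal.span {qf (C a) (C b) (C c) (X 0) (X 1 : MvPowerSeries (Fin 2) k)})) := by
  classical
  generalize hIdef : Ideal.span (Set.range f) = I at hz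
  have hIm : I ≤ maximalIdeal (MvPowerSeries (Fin n) k) := hIdef ▸ Ideal.span_le.2 (Set.range_subset_iff.2 hf)
  obtain ⟨F⟩ := exists_frame I hIm
  have he := F.e_eq_two hIdef.symm hJ
  haveI := isLocalRing_quotient hIm
  let π := Ideal.Quotient.mk I
  let R := MvPowerSeries (Fin n) k ⧸ I
  let M := maximalIdeal (MvPowerSeries (Fin n) k)
  obtain ⟨z, hzm, hzreg⟩ := hz
  have hzR : π z ∈ maximalIdeal R := map_max (I := I) ▸ Ideal.mem_map_of_mem _ hzm
  have hzregR : ∀ s, π z * s = 0 → s = 0 := fun s hs => by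
    obtain ⟨s, rfl⟩ := Ideal.Quotient.mk_surjective s
    rw [← map_mul, Ideal.Quotient.eq_zero_iff_mem] at hs
    exact Ideal.Quotient.eq_zero_iff_mem.2 (hzreg s hs)
  have hnp := not_principal F he.ge
  have hnegl : Frame.negl (I := I) ≤ I ⊔ M ^ 3 := by
    rw [Frame.negl, Ideal.mul_sup, ← pow_succ']
    exact sup_le_sup_right (Ideal.mul_le.2 fun a _ b hb => Ideal.mul_mem_left _ a hb) _
  -- the space of quadratic relations
  let Rel : Submodule k (Fin 3 → k) :=
    { carrier := {v | F.quad he v ∈ I ⊔ M ^ 3}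
      add_mem' := fun {v v'} hv hv' => by
        change F.quad he (v + v') ∈ I ⊔ M ^ 3
        convert add_mem (Set.mem_setOf.1 hv) (Set.mem_setOf.1 hv') using 1
        simp only [Frame.quad, qf, Pi.add_apply, map_add]
        ring
      zero_mem' := by simp [Frame.quad, qf]
      smul_mem' := fun t v hv => by
        change F.quad he (t • v) ∈ I ⊔ M ^ 3
        convert Ideal.mul_mem_left _ (C t) (Set.mem_setOf.1 hv) using 1
        simp only [Frame.quad, qf, Pi.smul_apply, smul_eq_mul, map_mul]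
        ring }
  have hgen : Ideal.span {π (F.z he 0), π (F.z he 1)} = maximalIdeal R := by
    rw [← Set.image_pair]
    exact span_eq_max _ (Set.pair_subset (F.z_mem he 0) (F.z_mem he 1)) (F.max_le_two he)
  have hrel : Module.finrank k Rel ≤ 1 := by
    by_contra hgt
    refine hnp ?_
    have hq : Module.finrank k ((Fin 3 → k) ⧸ Rel) ≤ 1 := by
      have := Submodule.finrank_quotient_add_finrank Rel
      rw [Module.finrank_fin_fun] at this
      omega
    obtain ⟨v, hv⟩ := finrank_le_one_iff.1 hq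
    obtain ⟨v, rfl⟩ := Submodule.Quotient.mk_surjective _ v
    refine isPrincipal_of_sq (π (F.quad he v)) (π z) ?_ hzR hzregR
    have hv2 : F.quad he v ∈ M ^ 2 := by
      rw [pow_two]
      simp only [Frame.quad, qf, pow_two]
      exact add_mem (add_mem (Ideal.mul_mem_left _ _ (Ideal.mul_mem_mul (F.z_mem he 0) (F.z_mem he 0)))
        (Ideal.mul_mem_left _ _ (Ideal.mul_mem_mul (F.z_mem he 0) (F.z_mem he 1))))
        (Ideal.mul_mem_left _ _ (Ideal.mul_mem_mul (F.z_mem he 1) (F.z_mem he 1)))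
    refine le_antisymm ?_ ((Ideal.span_singleton_le_iff_mem _).2 (mk_mem_pow 2 (Submodule.mem_sup_right hv2)))
    refine Submodule.le_of_le_smul_of_le_jacobson_bot (IsNoetherian.noetherian _) (maximalIdeal_le_jacobson ⊥) ?_
    rw [smul_eq_mul, ← pow_succ']
    rw [← map_max, ← Ideal.map_pow, Ideal.map_le_iff_le_comap]
    intro w hw
    obtain ⟨v', hv'⟩ := F.exists_quad he hw
    obtain ⟨t, ht⟩ := hv (Submodule.Quotient.mk v')
    rw [← Submodule.Quotient.mk_smul, eq_comm, Submodule.Quotient.eq] at ht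
    have h3 : w - C t * F.quad he v ∈ I ⊔ M ^ 3 := by
      have := add_mem (hnegl hv') (show F.quad he (v' - t • v) ∈ I ⊔ M ^ 3 from ht)
      convert this using 1
      simp only [Frame.quad, qf, Pi.sub_apply, Pi.smul_apply, smul_eq_mul, map_sub, map_mul]
      ring
    rw [Ideal.mem_comap, map_max]
    refine Submodule.mem_sup.2 ⟨π (C t * F.quad he v), ?_, _, mk_mem_pow 3 h3, by rw [← map_add]; congr 1; ring⟩
    rw [map_mul]
    exact Ideal.mul_mem_left _ _ (Ideal.mem_span_singleton_self _)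
  obtain ⟨vs, hvs⟩ := finrank_le_one_iff.1 hrel
  have hfI : ∀ j, F.red (f j) ∈ I := fun j => F.red_mem (hIdef ▸ Ideal.subset_span ⟨j, rfl⟩)
  have hhess : ∀ j, ∃ t : k, F.hess he 0 0 (F.red (f j)) = t * (2 * vs.1 0) ∧ F.hess he 0 1 (F.red (f j)) = t * vs.1 1 ∧
      F.hess he 1 0 (F.red (f j)) = t * vs.1 1 ∧ F.hess he 1 1 (F.red (f j)) = t * (2 * vs.1 2) := by
    intro j
    obtain ⟨v, hv⟩ := F.exists_quad he (F.red_mem_sq (hIdef ▸ Ideal.subset_span ⟨j, rfl⟩ : f j ∈ I))
    have hmem : v ∈ Rel := by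
      change F.quad he v ∈ I ⊔ M ^ 3
      have := sub_mem (Submodule.mem_sup_left (T := M ^ 3) (hfI j)) (hnegl hv)
      simpa using this
    obtain ⟨t, ht⟩ := hvs ⟨v, hmem⟩
    have hvt : ∀ i, v i = t * vs.1 i := fun i => (congrFun (congrArg Subtype.val ht) i).symm
    obtain ⟨h00, h01, h10, h11⟩ := F.hess_eq_quad he hv
    exact ⟨t, by rw [h00, hvt]; ring, by rw [h01, hvt], by rw [h10, hvt], by rw [h11, hvt]; ring⟩
  have hdisc : 4 * vs.1 0 * vs.1 2 - vs.1 1 ^ 2 ≠ 0 := fun h0 => by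
    obtain ⟨c₀, c₁, hne, h1, h2⟩ := disc_kill _ _ _ h0
    obtain ⟨e0, e1⟩ := F.hess_kill he hIdef.symm hJ c₀ c₁ fun j a => by
      obtain ⟨t, h00, h01, h10, h11⟩ := hhess j
      fin_cases a
      · simp only [Fin.zero_eta, h00, h01]
        linear_combination t * h1
      · simp only [Fin.mk_one, h10, h11]
        linear_combination t * h2
    tauto
  haveI : IsAdicComplete (maximalIdeal (MvPowerSeries (Fin n) k)) (MvPowerSeries (Fin n) k) :=
    { toIsHausdorff := IsHausdorff.of_le_jacobson _ _ (maximalIdeal_le_jacobson _)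
      toIsPrecomplete := by rw [Groth.L01.PowSerReg.maximalIdeal_eq]; infer_instance }
  haveI : IsAdicComplete (maximalIdeal R) R := Groth.L01.NagataComplete.isAdicComplete_quotient I
  let σ : k →+* R := algebraMap k R
  have hq₀ : qf (σ (vs.1 0)) (σ (vs.1 1)) (σ (vs.1 2)) (π (F.z he 0)) (π (F.z he 1)) ∈ maximalIdeal R ^ 3 := by
    have h := mk_mem_pow 3 (vs.2 : F.quad he vs.1 ∈ I ⊔ M ^ 3)
    rw [Frame.quad, Groth.L21.Nodal.map_qf] at h
    exact h
  obtain ⟨a', b', c', α, β, γ, δ, ha', hdisc', hαδ, hT⟩ := Groth.L21.Nodal.exists_normal_form.{u} _ _ _ hdisc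
  let dd := α * δ - β * γ
  let x₀ := σ (δ / dd) * π (F.z he 0) - σ (β / dd) * π (F.z he 1)
  let y₀ := σ (α / dd) * π (F.z he 1) - σ (γ / dd) * π (F.z he 0)
  have hxu : σ α * x₀ + σ β * y₀ = π (F.z he 0) := by
    have h1 : σ α * σ (δ / dd) - σ β * σ (γ / dd) = 1 := by
      rw [← map_mul, ← map_mul, ← map_sub, ← map_one σ, mul_div_assoc', mul_div_assoc', ← sub_div, div_self hαδ]
    have h2 : σ β * σ (α / dd) = σ α * σ (β / dd) := by rw [← map_mul, ← map_mul]; congr 1; ring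
    linear_combination (π (F.z he 0)) * h1 + (π (F.z he 1)) * h2
  have hyv : σ γ * x₀ + σ δ * y₀ = π (F.z he 1) := by
    have h1 : σ δ * σ (α / dd) - σ γ * σ (β / dd) = 1 := by
      rw [← map_mul, ← map_mul, ← map_sub, ← map_one σ, mul_div_assoc', mul_div_assoc', ← sub_div, mul_comm δ α,
        mul_comm γ β, div_self hαδ]
    have h2 : σ γ * σ (δ / dd) = σ δ * σ (γ / dd) := by rw [← map_mul, ← map_mul]; congr 1; ring
    linear_combination (π (F.z he 1)) * h1 + (π (F.z he 0)) * h2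
  have hgen₀ : Ideal.span {x₀, y₀} = maximalIdeal R := by
    rw [← hgen]
    refine le_antisymm ?_ ?_
    · rw [Ideal.span_le]
      rintro _ (rfl | rfl)
      · exact Ideal.mem_span_pair.2 ⟨σ (δ / dd), -σ (β / dd), by ring⟩
      · exact Ideal.mem_span_pair.2 ⟨-σ (γ / dd), σ (α / dd), by ring⟩
    · rw [Ideal.span_le]
      rintro _ (rfl | rfl)
      · exact Ideal.mem_span_pair.2 ⟨_, _, hxu⟩
      · exact Ideal.mem_span_pair.2 ⟨_, _, hyv⟩
  have hq₁ : qf (σ a') (σ b') (σ c') x₀ y₀ ∈ maximalIdeal R ^ 3 := by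
    have h1 := hT R σ x₀ y₀
    rw [hxu, hyv] at h1
    exact h1 ▸ hq₀
  obtain ⟨x₁, y₁, hgen₁, hq₂⟩ := Groth.L21.Nodal.exists_exact_quadratic (σ a') (σ b') (σ c') x₀ y₀ hgen₀ (by
    convert (IsUnit.mk0 _ hdisc').map σ using 1
    simp [map_ofNat]) hq₁
  obtain ⟨φ, hφ⟩ := Groth.L12.exists_evalPS (R := k) (maximalIdeal R) ![x₁, y₁]
    (fun i => by fin_cases i <;> exact hgen₁ ▸ Ideal.subset_span (by simp))
  have hI2 : (Ideal.span (Set.range (X : Fin 2 → MvPowerSeries (Fin 2) k))).map φ.toRingHom = maximalIdeal R := by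
    rw [Ideal.map_span, ← hgen₁]
    congr 1
    ext w
    simp [Fin.exists_fin_two, hφ, eq_comm]
  have hsurj : Function.Surjective φ := by
    haveI : IsHausdorff ((Ideal.span (Set.range (X : Fin 2 → MvPowerSeries (Fin 2) k))).map φ.toRingHom) R :=
      hI2 ▸ inferInstance
    refine surjective_of_mk_map_comp_surjective (I := Ideal.span (Set.range (X : Fin 2 → MvPowerSeries (Fin 2) k)))
      φ.toRingHom fun w => ?_
    obtain ⟨s, rfl⟩ := Ideal.Quotient.mk_surjective w
    obtain ⟨s, rfl⟩ := Ideal.Quotient.mk_surjective s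
    refine ⟨C (constantCoeff s), Ideal.Quotient.eq.2 ?_⟩
    rw [hI2, show φ.toRingHom (C (constantCoeff s)) = π (C (constantCoeff s)) from φ.commutes _, ← map_sub, ← map_max]
    exact Ideal.mem_map_of_mem _ (by rw [← neg_sub]; exact neg_mem (sub_C_mem s))
  have hker : RingHom.ker φ.toRingHom = Ideal.span {qf (C a') (C b') (C c') (X 0) (X 1 : MvPowerSeries (Fin 2) k)} := by
    refine Groth.L21.Nodal.quad_ker a' b' c' ha' φ.toRingHom hsurj ?_ (π z) hzR hzregR hnp
    rw [Groth.L21.Nodal.map_qf, show φ.toRingHom (X 0) = x₁ from hφ 0, show φ.toRingHom (X 1) = y₁ from hφ 1,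
      show φ.toRingHom (C a') = σ a' from φ.commutes _, show φ.toRingHom (C b') = σ b' from φ.commutes _,
      show φ.toRingHom (C c') = σ c' from φ.commutes _]
    exact hq₂
  exact ⟨a', b', c', hdisc', ⟨((Ideal.quotientEquivAlgOfEq k hker).symm.trans
    (Ideal.quotientKerAlgEquivOfSurjective hsurj)).symm⟩⟩

theorem supportDim_le (p q s : k) (hD : 4 * p * s - q ^ 2 ≠ 0) :
    ringKrullDim (MvPowerSeries (Fin 2) k ⧸ Ideal.span {qf (C p) (C q) (C s) (X 0) (X 1 : MvPowerSeries (Fin 2) k)}) ≤ 1 := by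
  have hne : qf (C p) (C q) (C s) (X 0) (X 1 : MvPowerSeries (Fin 2) k) ≠ 0 := fun h => by
    have hc : ∀ i j, constantCoeff (pderiv k j (pderiv k i (qf (C p) (C q) (C s) (X 0) (X 1 : MvPowerSeries (Fin 2) k)))) = 0 :=
      fun i j => by rw [h, map_zero, map_zero, map_zero]
    have e00 := hc 0 0
    have e01 := hc 0 1
    have e11 := hc 1 1
    simp [qf, pderiv_X, Derivation.leibniz, pow_two] at e00 e01 e11
    refine hD ?_
    have h2p : 2 * p = 0 := e00.elim (fun h => by simp [h]) fun h => by linear_combination p * h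
    linear_combination (2 * s) * h2p - q * e01
  have h := ringKrullDim_quotient_succ_le_of_nonZeroDivisor (mem_nonZeroDivisors_of_ne_zero hne)
  rw [Groth.L01.PowSerReg.ringKrullDim_eq] at h
  exact ENat.WithBot.add_le_add_one_right_iff.1 (h.trans (le_of_eq (by norm_num)))

/-- The consequences of being a node. -/
theorem of_iso (f : Fin m → MvPowerSeries (Fin n) k) (hf : ∀ j, f j ∈ maximalIdeal (MvPowerSeries (Fin n) k))
    (p q s : k) (hD : 4 * p * s - q ^ 2 ≠ 0)
    (e : (MvPowerSeries (Fin n) k ⧸ Ideal.span (Set.range f)) ≃ₐ[k]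
      (MvPowerSeries (Fin 2) k ⧸ Ideal.span {qf (C p) (C q) (C s) (X 0) (X 1 : MvPowerSeries (Fin 2) k)})) :
    IsReduced (MvPowerSeries (Fin n) k ⧸ Ideal.span (Set.range f)) ∧
    minorIdeal f = maximalIdeal (MvPowerSeries (Fin n) k) ∧
    LocCoh.depth (MvPowerSeries (Fin n) k) (MvPowerSeries (Fin n) k ⧸ Ideal.span (Set.range f)) = 1 := by
  classical
  generalize hIdef : Ideal.span (Set.range f) = I at e
  have hIm : I ≤ maximalIdeal (MvPowerSeries (Fin n) k) := hIdef ▸ Ideal.span_le.2 (Set.range_subset_iff.2 hf)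
  haveI := isLocalRing_quotient hIm
  haveI : IsLocalRing (MvPowerSeries (Fin 2) k ⧸ Ideal.span {qf (C p) (C q) (C s) (X 0) (X 1 : MvPowerSeries (Fin 2) k)}) :=
    e.toRingEquiv.isLocalRing
  obtain ⟨hred', hnp'⟩ := Groth.L21.Nodal.quad_ring_props p q s hD
  haveI hred : IsReduced (MvPowerSeries (Fin n) k ⧸ I) := isReduced_of_injective e e.injective
  have hemax : (maximalIdeal (MvPowerSeries (Fin n) k ⧸ I)).map e.toRingEquiv.toRingHom =
      (maximalIdeal (MvPowerSeries (Fin 2) k)).map (Ideal.Quotient.mk _) := by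
    rw [IsLocalRing.map_maximalIdeal_of_surjective _ Ideal.Quotient.mk_surjective,
      IsLocalRing.map_maximalIdeal_of_surjective _ e.surjective]
  have hnp : ¬ (maximalIdeal (MvPowerSeries (Fin n) k ⧸ I)).IsPrincipal := fun ⟨⟨g, hg⟩⟩ => hnp' ⟨⟨e g, by
    rw [← hemax, hg, Ideal.submodule_span_eq, Ideal.map_span, Set.image_singleton, Ideal.submodule_span_eq]
    rfl⟩⟩
  refine ⟨hred, ?_, ?_⟩
  · obtain ⟨F⟩ := exists_frame I hIm
    let π := Ideal.Quotient.mk I
    obtain ⟨u, hu⟩ := Ideal.Quotient.mk_surjective (I := I) (e.symm (Ideal.Quotient.mk _ (X 0)))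
    obtain ⟨v, hv⟩ := Ideal.Quotient.mk_surjective (I := I) (e.symm (Ideal.Quotient.mk _ (X 1)))
    have hspan : Ideal.span {π u, π v} = maximalIdeal (MvPowerSeries (Fin n) k ⧸ I) := by
      rw [hu, hv, ← IsLocalRing.map_maximalIdeal_of_surjective e.symm.toRingEquiv.toRingHom e.symm.surjective,
        ← IsLocalRing.map_maximalIdeal_of_surjective _ Ideal.Quotient.mk_surjective,
        ← Groth.L21.Nodal.span_X_eq_maximalIdeal, Ideal.map_span, Ideal.map_span, Set.image_pair, Set.image_pair]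
      rfl
    have hunit : ∀ w, π w ∈ maximalIdeal (MvPowerSeries (Fin n) k ⧸ I) → constantCoeff w = 0 := fun w hw =>
      mem_max.1 (by_contra fun h => (mem_maximalIdeal _).1 hw ((notMem_maximalIdeal.1 h).map _))
    have hu0 : constantCoeff u = 0 := hunit u (hspan ▸ Ideal.subset_span (Or.inl rfl))
    have hv0 : constantCoeff v = 0 := hunit v (hspan ▸ Ideal.subset_span (Or.inr rfl))
    have hgen : maximalIdeal _ ≤ Ideal.span (Set.range ![u, v]) ⊔ (I ⊔ maximalIdeal (MvPowerSeries (Fin n) k) ^ 2) := by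
      intro w hw
      have h1 : π w ∈ Ideal.span {π u, π v} := hspan ▸ map_max (I := I) ▸ Ideal.mem_map_of_mem _ hw
      obtain ⟨a, b, hab⟩ := Ideal.mem_span_pair.1 h1
      obtain ⟨a, rfl⟩ := Ideal.Quotient.mk_surjective a
      obtain ⟨b, rfl⟩ := Ideal.Quotient.mk_surjective b
      rw [← map_mul, ← map_mul, ← map_add, eq_comm, Ideal.Quotient.eq] at hab
      refine Submodule.mem_sup.2 ⟨a * u + b * v, add_mem (Ideal.mul_mem_left _ _ (Ideal.subset_span ⟨0, rfl⟩))
        (Ideal.mul_mem_left _ _ (Ideal.subset_span ⟨1, rfl⟩)), _, Submodule.mem_sup_left hab, by ring⟩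
    have he : F.e = 2 := le_antisymm (F.e_le ![u, v] (fun i => by fin_cases i <;> assumption) hgen) (two_le_e F hnp)
    have hw : qf (C p) (C q) (C s) u v ∈ I := by
      rw [← Ideal.Quotient.eq_zero_iff_mem, Groth.L21.Nodal.map_qf, hu, hv,
        show π (C p) = e.symm (Ideal.Quotient.mk _ (C p)) from (e.symm.commutes p).symm,
        show π (C q) = e.symm (Ideal.Quotient.mk _ (C q)) from (e.symm.commutes q).symm,
        show π (C s) = e.symm (Ideal.Quotient.mk _ (C s)) from (e.symm.commutes s).symm]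
      simp only [qf, ← map_pow, ← map_mul, ← map_add]
      rw [Ideal.Quotient.eq_zero_iff_mem.2 (Ideal.mem_span_singleton_self _), map_zero]
    have hw2 : qf (C p) (C q) (C s) u v ∈ maximalIdeal (MvPowerSeries (Fin n) k) ^ 2 := by
      rw [pow_two]
      simp only [qf, pow_two]
      exact add_mem (add_mem (Ideal.mul_mem_left _ _ (Ideal.mul_mem_mul (mem_max.2 hu0) (mem_max.2 hu0)))
        (Ideal.mul_mem_left _ _ (Ideal.mul_mem_mul (mem_max.2 hu0) (mem_max.2 hv0))))
        (Ideal.mul_mem_left _ _ (Ideal.mul_mem_mul (mem_max.2 hv0) (mem_max.2 hv0)))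
    obtain ⟨c, hc⟩ := F.exists_hess_comb he hIdef.symm hw hw2
    refine F.minorIdeal_eq he hIdef.symm c ?_
    simp only [← hc, F.hess_qf he _ _ _ _ _ _ _ hu0 hv0]
    let a₀ := constantCoeff (F.d he 0 u)
    let a₁ := constantCoeff (F.d he 1 u)
    let b₀ := constantCoeff (F.d he 0 v)
    let b₁ := constantCoeff (F.d he 1 v)
    have hT : a₀ * b₁ - a₁ * b₀ ≠ 0 := fun h0 => by
      have hk : ∀ c₀ c₁ : k, c₀ * a₀ + c₁ * a₁ = 0 → c₀ * b₀ + c₁ * b₁ = 0 → c₀ = 0 ∧ c₁ = 0 := fun c₀ c₁ h1 h2 =>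
        F.kill_two he ![u, v] (fun i => by fin_cases i <;> assumption) hgen c₀ c₁ fun i => by
          fin_cases i <;> assumption
      obtain ⟨hb1, hb0⟩ := hk b₁ (-b₀) (by linear_combination h0) (by ring)
      obtain ⟨ha1, ha0⟩ := hk a₁ (-a₀) (by ring) (by rw [hb1, neg_eq_zero.1 hb0]; ring)
      exact one_ne_zero (hk 1 0 (by rw [neg_eq_zero.1 ha0]; ring) (by rw [neg_eq_zero.1 hb0]; ring)).1
    convert mul_ne_zero hD (pow_ne_zero 2 hT) using 1
    simp only [a₀, a₁, b₀, b₁]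
    ring
  · have hnf : ¬ IsField (MvPowerSeries (Fin n) k ⧸ I) := fun h => hnp (by
      rw [IsLocalRing.isField_iff_maximalIdeal_eq.1 h]; exact bot_isPrincipal)
    obtain ⟨z, hz, hzreg⟩ := Groth.L21.Nodal.exists_mem_nonZeroDivisors hnf
    obtain ⟨z, rfl⟩ := Ideal.Quotient.mk_surjective z
    have hzm : z ∈ maximalIdeal (MvPowerSeries (Fin n) k) :=
      by_contra fun h => (mem_maximalIdeal _).1 hz ((notMem_maximalIdeal.1 h).map _)
    refine le_antisymm ?_ (Groth.L01.one_le_depth hzm (IsSMulRegular.of_right_eq_zero_of_smul (fun w hw => hzreg w hw)))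
    haveI : Nontrivial (MvPowerSeries (Fin n) k ⧸ I) := IsLocalRing.toNontrivial
    have h := Groth.L04.depth_le_supportDim (R := MvPowerSeries (Fin n) k) (M := MvPowerSeries (Fin n) k ⧸ I)
    rw [Module.supportDim_quotient_eq_ringKrullDim, ringKrullDim_eq_of_ringEquiv e.toRingEquiv] at h
    exact WithBot.coe_le_coe.1 (h.trans (supportDim_le p q s hD))

theorem exists_regular_of_reduced (f : Fin m → MvPowerSeries (Fin n) k) (hf : ∀ j, f j ∈ maximalIdeal (MvPowerSeries (Fin n) k))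
    (hJ : minorIdeal f = maximalIdeal (MvPowerSeries (Fin n) k))
    [IsReduced (MvPowerSeries (Fin n) k ⧸ Ideal.span (Set.range f))] :
    ∃ z ∈ maximalIdeal (MvPowerSeries (Fin n) k), ∀ s, z * s ∈ Ideal.span (Set.range f) → s ∈ Ideal.span (Set.range f) := by
  have hIm : Ideal.span (Set.range f) ≤ maximalIdeal (MvPowerSeries (Fin n) k) := Ideal.span_le.2 (Set.range_subset_iff.2 hf)
  haveI := isLocalRing_quotient hIm
  obtain ⟨F⟩ := exists_frame _ hIm
  have hnp := not_principal F (F.e_eq_two rfl hJ).ge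
  obtain ⟨z, hz, hzreg⟩ := Groth.L21.Nodal.exists_mem_nonZeroDivisors (A := MvPowerSeries (Fin n) k ⧸ Ideal.span (Set.range f))
    (fun h => hnp (by rw [IsLocalRing.isField_iff_maximalIdeal_eq.1 h]; exact bot_isPrincipal))
  obtain ⟨z, rfl⟩ := Ideal.Quotient.mk_surjective z
  refine ⟨z, by_contra fun h => (mem_maximalIdeal _).1 hz ((notMem_maximalIdeal.1 h).map _), fun s hs => ?_⟩
  exact Ideal.Quotient.eq_zero_iff_mem.1 (hzreg _ (by rw [← map_mul]; exact Ideal.Quotient.eq_zero_iff_mem.2 hs))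

theorem exists_regular_of_depth {R : Type u} [CommRing R] [IsLocalRing R] (I : Ideal R)
    (h : LocCoh.depth R (R ⧸ I) = 1) : ∃ z ∈ maximalIdeal R, ∀ s, z * s ∈ I → s ∈ I := by
  unfold LocCoh.depth LocCoh.idealDepth at h
  split at h
  · simp at h
  · obtain ⟨rs, hrs⟩ := lt_iSup_iff.1 (show (0 : ℕ∞) < _ from h ▸ zero_lt_one)
    obtain ⟨⟨hreg, hmem⟩, hlen⟩ := lt_iSup_iff.1 hrs
    rcases rs with _ | ⟨z, rs⟩
    · simp at hlen
    refine ⟨z, hmem z List.mem_cons_self, fun s hs => ?_⟩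
    have hz := ((RingTheory.Sequence.isWeaklyRegular_cons_iff (R ⧸ I) z rs).1 hreg).1
    rw [← Ideal.Quotient.eq_zero_iff_mem] at hs ⊢
    exact hz.right_eq_zero_of_smul (by rw [Algebra.smul_def]; exact hs)

end Groth.L06.NodeMinors
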