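import Groth.Agent.L06.NodeMinors.Frame
import Groth.Agent.L00.CauchyBinet
import Groth.Agent.S6575

/-! Determinants whose entries outside a matching lie in the maximal ideal. -/

set_option autoImplicit false
set_option linter.style.haveILetI false
universe u

open IsLocalRing MvPowerSeries

noncomputable section

namespace Groth.L06.NodeMinors

section Det

variable {R : Type*} [CommRing R] {N r : ℕ} {α β : Type*}

/-- A determinant with entries in `𝔪` away from the matched positions lies in `Q ⊇ 𝔪²` once the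
remaining entries of the last kind lie in `Q`. -/
theorem det_mem (M : Matrix (Fin N) (Fin N) R) (𝔪 Q : Ideal R) (hsq : 𝔪 * 𝔪 ≤ Q)
    (row : Fin N → Fin r ⊕ α) (hrow : Function.Injective row)
    (col : Fin N → β ⊕ Fin r) (hcol : Function.Injective col)
    (hM : ∀ x y, (∀ l, ¬ (row x = Sum.inl l ∧ col y = Sum.inr l)) → M x y ∈ 𝔪)
    (hN : r < N) (hQ : N = r + 1 → ∀ x y j a, row x = Sum.inr j → col y = Sum.inl a → M x y ∈ Q) :
    M.det ∈ Q := by
  classical
  rw [Matrix.det_apply']
  refine Submodule.sum_mem _ fun σ _ => Ideal.mul_mem_left _ _ ?_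
  let P : Fin N → Prop := fun x => ∃ l, row (σ x) = Sum.inl l ∧ col x = Sum.inr l
  have hbad : ∀ x, ¬ P x → M (σ x) x ∈ 𝔪 := fun x hx => hM _ _ fun l h => hx ⟨l, h⟩
  by_cases h2 : ∃ x₁ x₂, x₁ ≠ x₂ ∧ ¬ P x₁ ∧ ¬ P x₂
  · obtain ⟨x₁, x₂, hne, h1, h2⟩ := h2
    rw [← Finset.mul_prod_erase Finset.univ _ (Finset.mem_univ x₁),
      ← Finset.mul_prod_erase (Finset.univ.erase x₁) _ (Finset.mem_erase.2 ⟨hne.symm, Finset.mem_univ x₂⟩), ← mul_assoc]
    exact Ideal.mul_mem_right _ _ (hsq (Ideal.mul_mem_mul (hbad _ h1) (hbad _ h2)))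
  · push Not at h2
    choose φ hφ using fun (x : {x // P x}) => x.2
    have hinj : Function.Injective φ := fun x y h => Subtype.ext (hcol (by rw [(hφ x).2, (hφ y).2, h]))
    have hex : ∃ x₀, ¬ P x₀ := by
      by_contra hall
      push Not at hall
      have h1 := Fintype.card_le_of_injective _ hinj
      rw [Fintype.card_congr (Equiv.subtypeUnivEquiv hall)] at h1
      simp only [Fintype.card_fin] at h1
      omega
    obtain ⟨x₀, hx₀⟩ := hex
    have hothers : ∀ x, x ≠ x₀ → P x := fun x hx => h2 x₀ x (Ne.symm hx) hx₀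
    have hcard : Fintype.card {x // P x} = N - 1 := by
      have : Fintype.card {x // P x} = Fintype.card {x : Fin N // x ≠ x₀} :=
        Fintype.card_congr (Equiv.subtypeEquivRight fun x => ⟨fun hp he => hx₀ (he ▸ hp), hothers x⟩)
      rw [this, Fintype.card_subtype_compl, Fintype.card_subtype_eq]
      simp
    have h1 := Fintype.card_le_of_injective _ hinj
    rw [hcard, Fintype.card_fin] at h1
    have hsurj : Function.Surjective φ :=
      ((Fintype.bijective_iff_injective_and_card φ).2 ⟨hinj, by rw [hcard, Fintype.card_fin]; omega⟩).2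
    rw [← Finset.mul_prod_erase Finset.univ _ (Finset.mem_univ x₀)]
    refine Ideal.mul_mem_right _ _ ?_
    rcases hr : row (σ x₀) with l | j
    · obtain ⟨x, hx⟩ := hsurj l
      refine absurd ?_ hx₀
      have : (x : Fin N) = x₀ := σ.injective (hrow (by rw [(hφ x).1, hr, hx]))
      exact this ▸ x.2
    · rcases hc : col x₀ with a | l
      · exact hQ (by omega) _ _ j a hr hc
      · obtain ⟨x, hx⟩ := hsurj l
        refine absurd ?_ hx₀
        have : (x : Fin N) = x₀ := hcol (by rw [(hφ x).2, hc, hx])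
        exact this ▸ x.2

theorem det_mul_expand' {κ : Type*} [Fintype κ] [DecidableEq κ] (A : Matrix (Fin N) κ R) (B : Matrix κ (Fin N) R) :
    (A * B).det = ∑ f : Fin N → κ, (∏ i, A i (f i)) * (B.submatrix f id).det := by
  have : (A * B : Matrix (Fin N) (Fin N) R) = fun i => ∑ a, A i a • B a := by
    funext i j; simp [Matrix.mul_apply]
  rw [this]
  show (Matrix.detRowAlternating (n := Fin N) (R := R)).toMultilinearMap _ = _
  rw [MultilinearMap.map_sum]
  refine Finset.sum_congr rfl fun f _ => ?_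
  rw [MultilinearMap.map_smul_univ]
  rfl

/-- Minors of `M * P` are combinations of minors of `M`. -/
theorem minor_col_mem {κ ι : Type*} [Fintype κ] [DecidableEq κ] (M : Matrix α κ R) (P : Matrix κ ι R) (J : Ideal R)
    (ρ : Fin N → α) (hJ : ∀ γ : Fin N → κ, Function.Injective γ → (M.submatrix ρ γ).det ∈ J) (t : Fin N → ι) :
    ((M * P).submatrix ρ t).det ∈ J := by
  have he : ((M * P).submatrix ρ t).transpose = (P.submatrix id t).transpose * (M.submatrix ρ id).transpose := by
    ext x y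
    simp [Matrix.mul_apply, mul_comm]
  rw [← Matrix.det_transpose, he, det_mul_expand']
  refine Submodule.sum_mem _ fun f _ => Ideal.mul_mem_left _ _ ?_
  rw [show (M.submatrix ρ id).transpose.submatrix f id = (M.submatrix ρ f).transpose from rfl, Matrix.det_transpose]
  by_cases hf : Function.Injective f
  · exact hJ f hf
  · rw [Function.not_injective_iff] at hf
    obtain ⟨x, y, hxy, hne⟩ := hf
    rw [Matrix.det_zero_of_column_eq hne fun z => by simp [hxy]]
    exact zero_mem _

end Det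

variable {k : Type u} [Field k] {n m : ℕ}

/-- The ideal generated by the `(n-1)`-minors of the Jacobian of `f` and by `f`. -/
def minorIdeal (f : Fin m → MvPowerSeries (Fin n) k) : Ideal (MvPowerSeries (Fin n) k) :=
  Ideal.span {d : MvPowerSeries (Fin n) k | ∃ (ρ : Fin (n - 1) → Fin m) (γ : Fin (n - 1) → Fin n), Function.Injective ρ ∧ Function.Injective γ ∧
    d = ((Matrix.of fun (j : Fin m) (i : Fin n) => pderiv k i (f j)).submatrix ρ γ).det} ⊔ Ideal.span (Set.range f)

namespace Frame

variable {I : Ideal (MvPowerSeries (Fin n) k)} (F : Frame I) (f : Fin m → MvPowerSeries (Fin n) k)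

/-- The adapted generators. -/
def gens : Fin F.r ⊕ Fin m → MvPowerSeries (Fin n) k := Sum.elim F.g fun j => F.red (f j)

def jac : Matrix (Fin F.r ⊕ Fin m) (Fin F.e ⊕ Fin F.r) (MvPowerSeries (Fin n) k) :=
  Matrix.of fun j l => F.D l (F.gens f j)

theorem pderiv_eq (i : Fin n) (w : MvPowerSeries (Fin n) k) :
    pderiv k i w = ∑ l, F.D l w * C (F.b l i) := by
  classical
  have h : ∀ i', ∑ l, F.co l i' * F.b l i = Pi.single (M := fun _ => k) i' 1 i := fun i' => by
    have h1 := congrFun (F.b.sum_repr (Pi.single i' 1)) i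
    rw [Finset.sum_apply] at h1
    exact h1
  simp only [F.D_apply, Finset.sum_mul]
  rw [Finset.sum_comm, Finset.sum_congr rfl fun i' _ => show ∑ l, C (F.co l i') * pderiv k i' w * C (F.b l i) =
    C (∑ l, F.co l i' * F.b l i) * pderiv k i' w by
      rw [map_sum, Finset.sum_mul]; exact Finset.sum_congr rfl fun l _ => by rw [map_mul]; ring]
  simp only [h]
  rw [Finset.sum_eq_single i (fun j _ hj => by simp [Pi.single_eq_of_ne hj.symm]) (by simp)]
  simp

variable {f}

theorem minor_mem_J (hf : I = Ideal.span (Set.range f)) (ρ : Fin (n - 1) → Fin F.r ⊕ Fin m) (hρ : Function.Injective ρ)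
    (t : Fin (n - 1) → Fin F.e ⊕ Fin F.r) : ((F.jac f).submatrix ρ t).det ∈ minorIdeal f := by
  classical
  let g : Fin (F.r + m) → MvPowerSeries (Fin n) k := fun j => F.gens f (finSumFinEquiv.symm j)
  have hgf : Ideal.span (Set.range g) = Ideal.span (Set.range f) := by
    refine Eq.trans ?_ ((F.mem_of_generators f hf).trans hf)
    rw [← finSumFinEquiv.symm.surjective.range_comp (Sum.elim F.g fun j => F.red (f j))]
    rfl
  have key := Groth.Agent.S6575.result k n (F.r + m) m (n - 1) g f hgf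
  have he : F.jac f = (Matrix.of fun j (i : Fin n) => pderiv k i (F.gens f j)) *
      (Matrix.of fun (i : Fin n) l => (C (F.co l i) : MvPowerSeries (Fin n) k)) := by
    funext j l
    simp [jac, Matrix.mul_apply, F.D_apply, mul_comm]
  rw [he]
  refine minor_col_mem _ _ _ _ (fun γ hγ => ?_) t
  refine (key.le : _) (Submodule.mem_sup_left (Ideal.subset_span
    ⟨finSumFinEquiv ∘ ρ, γ, finSumFinEquiv.injective.comp hρ, hγ, ?_⟩))
  congr 1
  ext x y
  simp [g]

theorem minorIdeal_le (hf : I = Ideal.span (Set.range f)) (Q : Ideal (MvPowerSeries (Fin n) k)) (hI : I ≤ Q)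
    (hQ : ∀ (ρ : Fin (n - 1) → Fin F.r ⊕ Fin m) (t : Fin (n - 1) → Fin F.e ⊕ Fin F.r),
      Function.Injective ρ → Function.Injective t → ((F.jac f).submatrix ρ t).det ∈ Q) :
    minorIdeal f ≤ Q := by
  classical
  let g : Fin (F.r + m) → MvPowerSeries (Fin n) k := fun j => F.gens f (finSumFinEquiv.symm j)
  have hgf : Ideal.span (Set.range g) = Ideal.span (Set.range f) := by
    refine Eq.trans ?_ ((F.mem_of_generators f hf).trans hf)
    rw [← finSumFinEquiv.symm.surjective.range_comp (Sum.elim F.g fun j => F.red (f j))]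
    rfl
  refine (Groth.Agent.S6575.result k n m (F.r + m) (n - 1) f g hgf.symm).le.trans (sup_le (Ideal.span_le.2 ?_) ?_)
  · rintro _ ⟨ρ, γ, hρ, -, rfl⟩
    have he : (Matrix.of fun j (i : Fin n) => pderiv k i (g j)) =
        (Matrix.of fun j l => F.D l (g j)) * (Matrix.of fun l i => (C (F.b l i) : MvPowerSeries (Fin n) k)) := by
      funext j i
      simp [Matrix.mul_apply, F.pderiv_eq i (g j)]
    rw [SetLike.mem_coe, he]
    exact minor_col_mem _ _ Q ρ (fun t ht => by
      convert hQ (finSumFinEquiv.symm ∘ ρ) t (finSumFinEquiv.symm.injective.comp hρ) ht using 1; rfl) γ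
  · rw [hgf, ← hf]; exact hI

theorem jac_mem (hf : I = Ideal.span (Set.range f)) (j : Fin F.r ⊕ Fin m) (l : Fin F.e ⊕ Fin F.r)
    (h : ∀ l', ¬ (j = Sum.inl l' ∧ l = Sum.inr l')) : F.jac f j l ∈ maximalIdeal (MvPowerSeries (Fin n) k) := by
  classical
  rw [mem_max]
  rcases j with l' | j
  · change constantCoeff (F.D l (F.g l')) = 0
    rw [F.eps_D_g, if_neg fun he => h l' ⟨rfl, he.symm⟩]
  · exact F.eps_D_sq (F.red_mem_sq (hf ▸ Ideal.subset_span ⟨j, rfl⟩)) l

theorem minorIdeal_le_of_lt (hf : I = Ideal.span (Set.range f)) (hN : F.r < n - 1)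
    (Q : Ideal (MvPowerSeries (Fin n) k)) (hI : I ≤ Q) (hsq : maximalIdeal _ ^ 2 ≤ Q)
    (hQ : n - 1 = F.r + 1 → ∀ j a, F.D (Sum.inl a) (F.red (f j)) ∈ Q) : minorIdeal f ≤ Q := by
  refine F.minorIdeal_le hf Q hI fun ρ t hρ ht => det_mem _ (maximalIdeal _) Q (by rw [← pow_two]; exact hsq)
    ρ hρ t ht (fun x y h => F.jac_mem hf _ _ h) hN fun he x y j a hx hy => ?_
  rw [Matrix.submatrix_apply, hx, hy]
  exact hQ he j a

theorem minorIdeal_eq_top (hf : I = Ideal.span (Set.range f)) (hN : n - 1 ≤ F.r) : minorIdeal f = ⊤ := by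
  classical
  refine Ideal.eq_top_of_isUnit_mem _ (F.minor_mem_J hf (Sum.inl ∘ Fin.castLE hN)
    (Sum.inl_injective.comp (Fin.castLE_injective hN)) (Sum.inr ∘ Fin.castLE hN)) ?_
  rw [isUnit_iff_constantCoeff, RingHom.map_det,
    show (constantCoeff : MvPowerSeries (Fin n) k →+* k).mapMatrix
      ((F.jac f).submatrix (Sum.inl ∘ Fin.castLE hN) (Sum.inr ∘ Fin.castLE hN)) = 1 by
        ext x y; simp [jac, gens, F.eps_D_g, Matrix.one_apply, Fin.castLE_inj], Matrix.det_one]
  exact isUnit_one

theorem D_red_mem (hf : I = Ideal.span (Set.range f)) (hN : n - 1 = F.r + 1) (j : Fin m) (a : Fin F.e) :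
    F.D (Sum.inl a) (F.red (f j)) ∈ minorIdeal f ⊔ maximalIdeal _ ^ 2 := by
  classical
  let ρ : Fin (F.r + 1) → Fin F.r ⊕ Fin m := Fin.cons (Sum.inr j) Sum.inl
  let t : Fin (F.r + 1) → Fin F.e ⊕ Fin F.r := Fin.cons (Sum.inl a) Sum.inr
  have hρ : Function.Injective ρ := Fin.cons_injective_iff.2 ⟨by simp, Sum.inl_injective⟩
  have hd : ((F.jac f).submatrix ρ t).det ∈ minorIdeal f := by
    have := F.minor_mem_J hf (ρ ∘ finCongr hN) (hρ.comp (finCongr hN).injective) (t ∘ finCongr hN)
    rwa [← Matrix.submatrix_submatrix, Matrix.det_submatrix_equiv_self] at this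
  rw [Matrix.det_succ_row_zero, Fin.sum_univ_succ] at hd
  have hrest : ∀ (i : Fin F.r), (-1) ^ ((i.succ : Fin (F.r + 1)) : ℕ) * (F.jac f).submatrix ρ t 0 i.succ *
      (((F.jac f).submatrix ρ t).submatrix Fin.succ (i.succ).succAbove).det ∈
        maximalIdeal (MvPowerSeries (Fin n) k) ^ 2 := fun i => by
    rw [mul_assoc, pow_two]
    refine Ideal.mul_mem_left _ _ (Ideal.mul_mem_mul (F.jac_mem hf _ _ (by simp [ρ])) ?_)
    rw [mem_max, RingHom.map_det]
    haveI : NeZero F.r := NeZero.of_pos i.pos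
    refine Matrix.det_eq_zero_of_column_eq_zero 0 fun x => ?_
    simp only [RingHom.mapMatrix_apply, Matrix.map_apply, Matrix.submatrix_apply, ρ, t,
      Fin.succAbove_ne_zero_zero (Fin.succ_ne_zero i), Fin.cons_succ, Fin.cons_zero]
    exact mem_max.1 (F.jac_mem hf _ _ (by simp))
  have hG : IsUnit ((((F.jac f).submatrix ρ t).submatrix Fin.succ (0 : Fin (F.r + 1)).succAbove)).det := by
    rw [isUnit_iff_constantCoeff, RingHom.map_det, show (constantCoeff : MvPowerSeries (Fin n) k →+* k).mapMatrix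
      (((F.jac f).submatrix ρ t).submatrix Fin.succ (0 : Fin (F.r + 1)).succAbove) = 1 by
        ext x y; simp [ρ, t, jac, gens, F.eps_D_g, Matrix.one_apply, Fin.succAbove_zero], Matrix.det_one]
    exact isUnit_one
  have h1 : (F.jac f).submatrix ρ t 0 0 * (((F.jac f).submatrix ρ t).submatrix Fin.succ (0 : Fin (F.r + 1)).succAbove).det ∈
      minorIdeal f ⊔ maximalIdeal _ ^ 2 := by
    have := sub_mem (Submodule.mem_sup_left (T := maximalIdeal (MvPowerSeries (Fin n) k) ^ 2) hd)
      (Submodule.mem_sup_right (S := minorIdeal f) (Submodule.sum_mem _ fun i (_ : i ∈ Finset.univ) => hrest i))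
    simpa using this
  rw [mul_comm] at h1
  exact (Submodule.smul_mem_iff_of_isUnit _ hG).1 h1

end Frame

end Groth.L06.NodeMinors
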